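import Groth.Statements.S8827
import Groth.Agent.H29.FlatDepthMod
import Groth.Agent.H54.Sit_X1
import Groth.Agent.H83.Sit_E1
import Groth.Agent.H87.Sit_X2

/-!
# Depth comparison for the "Situation" rows S8827 / S8796

For primes `p ≤ r` of a Noetherian ring `A` with `r` minimal over `p + I` and `I ⊄ p`, there is a
prime `p'` of the `I`-adic completion of `A_r`, not containing `I`, such that `V(p') ∩ V(I)` is the
closed point and `depth (M_r^)_{p'} = depth M_p`.

Squad: (X1) helper54, (E1) helper83, (X2) helper87.
-/

set_option autoImplicit false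
universe u
open CategoryTheory IsLocalRing TensorProduct

namespace Groth.Agent.H15.Sit

variable (A : Type u) [CommRing A] [IsNoetherianRing A] (I : Ideal A)

/-- the completed local ring at `r` -/
abbrev Rh (r : PrimeSpectrum A) : Type u :=
  AdicCompletion (I.map (algebraMap A (Localization.AtPrime r.asIdeal)))
    (Localization.AtPrime r.asIdeal)

/-- key consequence: the depth equality. -/
theorem exists_prime_depth_eq (M : Type u) [AddCommGroup M] [Module A M] [Module.Finite A M]
    (p r : PrimeSpectrum A) (hpI : ¬ I ≤ p.asIdeal)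
    (hr : r.asIdeal ∈ (p.asIdeal ⊔ I).minimalPrimes) :
    ∃ p' : PrimeSpectrum (Rh A I r),
      ¬ I.map (algebraMap A (Rh A I r)) ≤ p'.asIdeal ∧
      (∀ q' : PrimeSpectrum (Rh A I r), p' ≤ q' →
        I.map (algebraMap A (Rh A I r)) ≤ q'.asIdeal → q'.asIdeal.IsMaximal) ∧
      LocCoh.depth (Localization.AtPrime p'.asIdeal)
        (LocalizedModule p'.asIdeal.primeCompl
          (AdicCompletion (I.map (algebraMap A (Localization.AtPrime r.asIdeal)))
            (LocalizedModule r.asIdeal.primeCompl M))) =
      LocCoh.depth (Localization.AtPrime p.asIdeal) (LocalizedModule p.asIdeal.primeCompl M) := by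
  obtain ⟨p', hcomap, hmin, hmax⟩ :=
    Groth.Agent.H83.Sit_E1.exists_prime_completion A I p r hpI hr
  refine ⟨p', ?_, hmax, ?_⟩
  · intro hle
    apply hpI
    rw [← hcomap]
    exact Ideal.le_comap_of_map_le hle
  · obtain ⟨hN, alg, hloc, hflat, mod, tower, g, hg, hfib⟩ :=
      Groth.Agent.H87.Sit_X2.exists_algebra_isBaseChange A I M p r p' hcomap hmin
    exact Groth.Agent.H54.Sit_X1.depth_eq_of_isBaseChange _ _ hfib _ _ g hg

end Groth.Agent.H15.Sit
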